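import Mathlib

/-! Trace of `h²` on irreducible `sl₂`-modules (S17468). -/

namespace Groth.Agent.Helper7.Sl2Trace

open LieModule

universe u v w

/-- the sum of squares of the weights -/
theorem sum_sq_int (N : ℕ) (a : ℤ) :
    3 * ∑ i ∈ Finset.range N, (a - 2 * (i : ℤ)) ^ 2 =
      3 * N * a ^ 2 - 6 * a * N * (N - 1) + 2 * (N - 1) * N * (2 * N - 1) := by
  induction N with
  | zero => simp
  | succ N ih =>
    rw [Finset.sum_range_succ, mul_add, ih]
    push_cast
    ring

theorem six_mul_choose (n : ℕ) : 6 * (n + 2).choose 3 = (n + 2) * (n + 1) * n := by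
  have h := Nat.descFactorial_eq_factorial_mul_choose (n + 2) 3
  have h3 : (3 : ℕ).factorial = 6 := by decide
  rw [h3] at h
  rw [← h]
  simp [Nat.descFactorial_succ, Nat.descFactorial_zero]
  ring

theorem sum_sq_field (k : Type u) [Field k] [CharZero k] (n : ℕ) :
    ∑ i : Fin (n + 1), ((n : k) - 2 * ((i : ℕ) : k)) ^ 2 = 2 * (((n + 2).choose 3 : ℕ) : k) := by
  have h1 : ∑ i : Fin (n + 1), ((n : ℤ) - 2 * ((i : ℕ) : ℤ)) ^ 2 = 2 * (((n + 2).choose 3 : ℕ) : ℤ) := by
    rw [Fin.sum_univ_eq_sum_range (fun i : ℕ => ((n : ℤ) - 2 * (i : ℤ)) ^ 2) (n + 1)]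
    have h2 := sum_sq_int (n + 1) n
    have h3 : ((6 * (n + 2).choose 3 : ℕ) : ℤ) = (((n + 2) * (n + 1) * n : ℕ) : ℤ) := by
      rw [six_mul_choose]
    push_cast at h2 h3
    linarith
  have h2 := congrArg (fun z : ℤ => (z : k)) h1
  simp only [Int.cast_sum, Int.cast_pow, Int.cast_sub, Int.cast_mul, Int.cast_natCast,
    Int.cast_ofNat] at h2
  exact h2

section Irred

variable (k : Type u) [Field k] [IsAlgClosed k] [CharZero k]
  (L : Type v) [LieRing L] [LieAlgebra k L]
  {h e f : L} (t : IsSl2Triple h e f)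
  (M : Type w) [AddCommGroup M] [Module k M] [LieRingModule L M] [LieModule k L M]
  [FiniteDimensional k M]

include t in
theorem trace_irred (hspan : t.toLieSubalgebra k = ⊤) [LieModule.IsIrreducible k L M] :
    LinearMap.trace k M ((LieModule.toEnd k L M h) ^ 2) =
      2 * (((Module.finrank k M + 1).choose 3 : ℕ) : k) := by
  have hnt : Nontrivial M := by
    by_contra hM
    rw [not_nontrivial_iff_subsingleton] at hM
    have : (⊥ : LieSubmodule k L M) = ⊤ := by
      ext x
      simp [Subsingleton.elim x 0]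
    exact bot_ne_top this
  obtain ⟨μ, m, hm0, P⟩ := t.exists_hasPrimitiveVectorWith (R := k) (M := M)
  obtain ⟨n, hn⟩ := P.exists_nat
  set v : ℕ → M := fun i => ((toEnd k L M f) ^ i) m with hv
  have hvh : ∀ i, ⁅h, v i⁆ = (μ - 2 * (i : k)) • v i := fun i => P.lie_h_pow_toEnd_f i
  have hvf : ∀ i, ⁅f, v i⁆ = v (i + 1) := fun i => P.lie_f_pow_toEnd_f i
  have hve : ∀ i, ⁅e, v (i + 1)⁆ = (((i : k) + 1) * (μ - i)) • v i :=
    fun i => P.lie_e_pow_succ_toEnd_f i
  have hve0 : ⁅e, v 0⁆ = 0 := by simpa [hv] using P.lie_e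
  have hvne : ∀ i, i ≤ n → v i ≠ 0 := fun i hi => P.pow_toEnd_f_ne_zero_of_eq_nat hn hi
  have hvz : ∀ i, n < i → v i = 0 := by
    intro i hi
    obtain ⟨j, rfl⟩ : ∃ j, i = (n + 1) + j := ⟨i - (n + 1), by omega⟩
    have h0 : v (n + 1) = 0 := P.pow_toEnd_f_eq_zero_of_eq_nat hn
    induction j with
    | zero => exact h0
    | succ j ih =>
      rw [← add_assoc, ← hvf, ih (by omega), lie_zero]
  -- the span is a Lie submodule
  let U : LieSubmodule k L M :=
    { Submodule.span k (Set.range v) with
      lie_mem := by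
        intro x u hu
        have hx : x ∈ t.toLieSubalgebra k := by rw [hspan]; trivial
        obtain ⟨c₁, c₂, c₃, rfl⟩ := IsSl2Triple.mem_toLieSubalgebra_iff.mp hx
        simp only [AddSubsemigroup.mem_carrier, AddSubmonoid.mem_toSubsemigroup,
          Submodule.mem_toAddSubmonoid] at hu ⊢
        induction hu using Submodule.span_induction with
        | zero => simp
        | add a b _ _ ha hb => rw [lie_add]; exact add_mem ha hb
        | smul c a _ ha => rw [lie_smul]; exact Submodule.smul_mem _ c ha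
        | mem a ha =>
          obtain ⟨i, rfl⟩ := ha
          rw [add_lie, add_lie, smul_lie, smul_lie, smul_lie, t.lie_e_f, hvh, hvf]
          refine add_mem (add_mem (Submodule.smul_mem _ _ ?_) (Submodule.smul_mem _ _ ?_))
            (Submodule.smul_mem _ _ (Submodule.smul_mem _ _ ?_))
          · cases i with
            | zero => rw [hve0]; exact zero_mem _
            | succ i =>
              rw [hve]
              exact Submodule.smul_mem _ _ (Submodule.subset_span ⟨i, rfl⟩)
          · exact Submodule.subset_span ⟨i + 1, rfl⟩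
          · exact Submodule.subset_span ⟨i, rfl⟩ }
  have hU : U = ⊤ := by
    refine (IsSimpleOrder.eq_bot_or_eq_top U).resolve_left ?_
    intro hbot
    have hmU : m ∈ U := Submodule.subset_span ⟨0, by simp [hv]⟩
    rw [hbot] at hmU
    exact hm0 ((LieSubmodule.mem_bot _).mp hmU)
  have hspanv : Submodule.span k (Set.range v) = ⊤ := by
    have := congrArg LieSubmodule.toSubmodule hU
    simpa [U] using this
  -- basis
  let w : Fin (n + 1) → M := fun i => v i
  have hli : LinearIndependent k w := by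
    apply Module.End.eigenvectors_linearIndependent' (toEnd k L M h)
      (fun i : Fin (n + 1) => μ - 2 * ((i : ℕ) : k))
    · intro i j hij
      simp only [sub_right_inj, mul_eq_mul_left_iff, Nat.cast_inj, OfNat.ofNat_ne_zero,
        or_false] at hij
      exact Fin.ext hij
    · intro i
      refine ⟨?_, hvne i (Nat.lt_succ_iff.mp i.2)⟩
      rw [Module.End.mem_eigenspace_iff, toEnd_apply_apply]
      exact hvh i
  have hsp : ⊤ ≤ Submodule.span k (Set.range w) := by
    rw [← hspanv]
    apply Submodule.span_le.mpr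
    rintro _ ⟨i, rfl⟩
    by_cases hi : i ≤ n
    · exact Submodule.subset_span ⟨⟨i, Nat.lt_succ_of_le hi⟩, rfl⟩
    · rw [hvz i (by omega)]
      exact zero_mem _
  let b : Module.Basis (Fin (n + 1)) k M := Module.Basis.mk hli hsp
  have hfr : Module.finrank k M = n + 1 := by
    rw [Module.finrank_eq_card_basis b, Fintype.card_fin]
  rw [hfr, LinearMap.trace_eq_matrix_trace k b, Matrix.trace]
  rw [← sum_sq_field k n]
  apply Finset.sum_congr rfl
  intro i _
  rw [Matrix.diag_apply, LinearMap.toMatrix_apply]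
  have hbi : b i = v i := by simp [b, w]
  have h2 : ((toEnd k L M h) ^ 2) (b i) = ((n : k) - 2 * ((i : ℕ) : k)) ^ 2 • b i := by
    rw [hbi, pow_two, Module.End.mul_apply, toEnd_apply_apply, toEnd_apply_apply, hvh, lie_smul,
      hvh, smul_smul, hn, pow_two]
  rw [h2, map_smul, Module.Basis.repr_self]
  simp

end Irred

end Groth.Agent.Helper7.Sl2Trace
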